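import Groth.Agent.FmlGrp.K955.Inverse
import Mathlib.RingTheory.PowerSeries.WeierstrassPreparation
import Mathlib.RingTheory.DiscreteValuationRing.Basic
import Mathlib.LinearAlgebra.Dimension.Finite
import Mathlib.Tactic

/-!
# `O[[X]]` is free of finite rank along `X ↦ f` iff `f` is nonzero modulo the maximal ideal
-/

set_option autoImplicit false

universe u

namespace K955.FreeAlong

open PowerSeries

section General

variable {R : Type u} [CommRing R]

/-- The shifted series: `c = X * shift c + C (c 0)`. -/
noncomputable def shift (c : PowerSeries R) : PowerSeries R := PowerSeries.mk fun n => coeff (n + 1) c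

lemma eq_shift (c : PowerSeries R) : c = X * shift c + C (constantCoeff c) :=
  PowerSeries.eq_X_mul_shift_add_const c

lemma subst_eq {f : PowerSeries R} (hf : constantCoeff f = 0) (c : PowerSeries R) :
    (PowerSeries.subst f c : PowerSeries R) = f * PowerSeries.subst f (shift c) + C (constantCoeff c) := by
  have hs : PowerSeries.HasSubst f := PowerSeries.HasSubst.of_constantCoeff_zero' hf
  conv_lhs => rw [eq_shift c]
  rw [PowerSeries.subst_add hs, PowerSeries.subst_mul hs, PowerSeries.subst_X hs]
  congr 1
  rw [← Polynomial.coe_C, PowerSeries.subst_coe hs]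
  simp [PowerSeries.C]

end General

section Forward

variable {R : Type u} [CommRing R] [IsLocalRing R] [IsAdicComplete (IsLocalRing.maximalIdeal R) R]

open IsLocalRing

lemma deg_sum_lt (n : ℕ) (a : Fin n → R) :
    (∑ i : Fin n, Polynomial.C (a i) * Polynomial.X ^ (i : ℕ)).degree < (n : WithBot ℕ) := by
  rw [← Polynomial.mem_degreeLT]
  refine Submodule.sum_mem _ fun i _ => ?_
  rw [Polynomial.mem_degreeLT]
  exact lt_of_le_of_lt (Polynomial.degree_C_mul_X_pow_le _ _) (by exact_mod_cast i.2)

theorem free_of_map_ne_zero (f : PowerSeries R) (hf0 : constantCoeff f = 0)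
    (hf : f.map (residue R) ≠ 0) :
    ∃ (n : ℕ) (b : Fin n → PowerSeries R), ∀ g : PowerSeries R, ∃! c : Fin n → PowerSeries R,
        g = ∑ i, PowerSeries.subst f (c i) * b i := by
  set n := (f.map (residue R)).order.toNat with hn
  have hdiv : ∀ g : PowerSeries R, ∃ q r, g.IsWeierstrassDivision f q r := fun g =>
    exists_isWeierstrassDivision g hf
  refine ⟨n, fun i => X ^ (i : ℕ), fun g => ?_⟩
  -- uniqueness, homogeneous version
  have huniq : ∀ (N : ℕ) (c : Fin n → PowerSeries R),
      (∑ i, (PowerSeries.subst f (c i) : PowerSeries R) * X ^ (i : ℕ)) = 0 → ∀ i, coeff N (c i) = 0 := by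
    intro N
    induction N with
    | zero =>
      intro c hc i
      simp_rw [subst_eq hf0 (c _)] at hc
      have h1 : IsWeierstrassDivision (0 : PowerSeries R) f
          (∑ i, (PowerSeries.subst f (shift (c i)) : PowerSeries R) * X ^ (i : ℕ))
          (∑ i : Fin n, Polynomial.C (constantCoeff (c i)) * Polynomial.X ^ (i : ℕ)) := by
        refine ⟨deg_sum_lt n _, ?_⟩
        rw [← hc, Finset.mul_sum]
        have : ((∑ i : Fin n, Polynomial.C (constantCoeff (c i)) * Polynomial.X ^ (i : ℕ) :
            Polynomial R) : PowerSeries R) = ∑ i : Fin n, C (constantCoeff (c i)) * X ^ (i : ℕ) := by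
          rw [← Polynomial.coeToPowerSeries.ringHom_apply, map_sum]
          simp
        rw [this, ← Finset.sum_add_distrib]
        refine Finset.sum_congr rfl fun i _ => ?_
        ring
      have h2 := (h1.eq_zero hf).2
      have h3 := congrArg (fun P => Polynomial.coeff P (i : ℕ)) h2
      simp only [Polynomial.finsetSum_coeff, Polynomial.coeff_C_mul, Polynomial.coeff_X_pow,
        Polynomial.coeff_zero] at h3
      rw [Finset.sum_eq_single i] at h3
      · simpa using h3
      · intro j _ hj
        rw [if_neg, mul_zero]
        intro h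
        exact hj (Fin.ext h.symm)
      · intro h
        exact absurd (Finset.mem_univ i) h
    | succ N ih =>
      intro c hc i
      simp_rw [subst_eq hf0 (c _)] at hc
      have h1 : IsWeierstrassDivision (0 : PowerSeries R) f
          (∑ i, (PowerSeries.subst f (shift (c i)) : PowerSeries R) * X ^ (i : ℕ))
          (∑ i : Fin n, Polynomial.C (constantCoeff (c i)) * Polynomial.X ^ (i : ℕ)) := by
        refine ⟨deg_sum_lt n _, ?_⟩
        rw [← hc, Finset.mul_sum]
        have : ((∑ i : Fin n, Polynomial.C (constantCoeff (c i)) * Polynomial.X ^ (i : ℕ) :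
            Polynomial R) : PowerSeries R) = ∑ i : Fin n, C (constantCoeff (c i)) * X ^ (i : ℕ) := by
          rw [← Polynomial.coeToPowerSeries.ringHom_apply, map_sum]
          simp
        rw [this, ← Finset.sum_add_distrib]
        refine Finset.sum_congr rfl fun i _ => ?_
        ring
      have h2 := (h1.eq_zero hf).1
      have h3 := ih (fun i => shift (c i)) h2 i
      rw [shift, coeff_mk] at h3
      exact h3
  -- existence
  choose Q P hQP using hdiv
  let q : ℕ → PowerSeries R := fun k => Q^[k] g
  let r : ℕ → Polynomial R := fun k => P (q k)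
  have hq : ∀ k, q k = f * q (k + 1) + (r k : PowerSeries R) := by
    intro k
    have h := (hQP (q k)).eq_mul_add
    have h2 : q (k + 1) = Q (q k) := Function.iterate_succ_apply' Q k g
    rw [h2]
    exact h
  have hr : ∀ k, (r k : PowerSeries R) = ∑ i : Fin n, C ((r k).coeff i) * X ^ (i : ℕ) := by
    intro k
    have hd : (r k).degree < n := (hQP (q k)).degree_lt
    have h1 : r k = ∑ i : Fin n, Polynomial.C ((r k).coeff i) * Polynomial.X ^ (i : ℕ) := by
      have := (Polynomial.as_sum_range' (r k) n (by
        by_cases h0 : r k = 0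
        · rw [h0] at hd ⊢
          rw [Polynomial.natDegree_zero]
          by_contra hn0
          push Not at hn0
          have hn1 : n = 0 := by omega
          -- `n = 0` : then the order of the reduction is zero, contradicting `f 0 = 0`
          have h5 : (f.map (residue R)).order = 0 := by
            have h6 : (f.map (residue R)).order ≠ ⊤ := by
              rw [Ne, order_eq_top]; exact hf
            rw [← ENat.natCast_toNat h6, ← hn, hn1]; rfl
          have h7 := coeff_order hf
          rw [h5] at h7
          apply h7
          simp [hf0]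
        · rwa [Polynomial.natDegree_lt_iff_degree_lt h0]))
      rw [Finset.sum_range] at this
      conv_lhs => rw [this]
      refine Finset.sum_congr rfl fun i _ => ?_
      rw [Polynomial.C_mul_X_pow_eq_monomial]
    conv_lhs => rw [h1]
    rw [← Polynomial.coeToPowerSeries.ringHom_apply, map_sum]
    simp
  let c : ℕ → Fin n → PowerSeries R := fun k i => PowerSeries.mk fun j => (r (k + j)).coeff i
  have hcs : ∀ k i, shift (c k i) = c (k + 1) i := by
    intro k i
    ext j
    simp only [shift, c, coeff_mk]
    congr 2
    ring
  have hc0 : ∀ k i, constantCoeff (c k i) = (r k).coeff i := by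
    intro k i
    rw [← coeff_zero_eq_constantCoeff_apply, coeff_mk, add_zero]
  have hS : ∀ k, (∑ i, (PowerSeries.subst f (c k i) : PowerSeries R) * X ^ (i : ℕ)) =
      f * (∑ i, (PowerSeries.subst f (c (k + 1) i) : PowerSeries R) * X ^ (i : ℕ)) + (r k : PowerSeries R) := by
    intro k
    rw [hr k, Finset.mul_sum, ← Finset.sum_add_distrib]
    refine Finset.sum_congr rfl fun i _ => ?_
    rw [subst_eq hf0 (c k i), hcs, hc0]
    ring
  have hfX : (X : PowerSeries R) ∣ f := X_dvd_iff.mpr hf0
  have hconv : ∀ (N k : ℕ), (X : PowerSeries R) ^ N ∣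
      q k - ∑ i, (PowerSeries.subst f (c k i) : PowerSeries R) * X ^ (i : ℕ) := by
    intro N
    induction N with
    | zero => intro k; simp
    | succ N ih =>
      intro k
      rw [hq k, hS k, add_sub_add_right_eq_sub, ← mul_sub, pow_succ']
      exact mul_dvd_mul hfX (ih (k + 1))
  have hex : g = ∑ i, (PowerSeries.subst f (c 0 i) : PowerSeries R) * X ^ (i : ℕ) := by
    rw [← sub_eq_zero]
    ext m
    have := hconv (m + 1) 0
    rw [X_pow_dvd_iff] at this
    exact this m (by omega)
  refine ⟨c 0, hex, ?_⟩
  intro c' hc'
  have hs : PowerSeries.HasSubst f := PowerSeries.HasSubst.of_constantCoeff_zero' hf0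
  have h0 : (∑ i, (PowerSeries.subst f (c' i - c 0 i) : PowerSeries R) * X ^ (i : ℕ)) = 0 := by
    have : ∀ i, (PowerSeries.subst f (c' i - c 0 i) : PowerSeries R) =
        PowerSeries.subst f (c' i) - PowerSeries.subst f (c 0 i) := fun i => by
      rw [← PowerSeries.coe_substAlgHom hs, map_sub]
    simp_rw [this, sub_mul]
    rw [Finset.sum_sub_distrib, ← hex, ← hc', sub_self]
  funext i
  rw [← sub_eq_zero]
  ext N
  exact huniq N _ h0 i

end Forward

section Backward

variable {R : Type u} [CommRing R] [IsLocalRing R]

open IsLocalRing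

theorem map_ne_zero_of_free (f : PowerSeries R) (hf0 : constantCoeff f = 0)
    (n : ℕ) (b : Fin n → PowerSeries R)
    (h : ∀ g : PowerSeries R, ∃ c : Fin n → PowerSeries R, g = ∑ i, PowerSeries.subst f (c i) * b i) :
    f.map (residue R) ≠ 0 := by
  intro hf
  let k := ResidueField R
  -- the reduction `k[[X]]` is spanned by the reductions of the `b i`
  have hspan : ∀ g : PowerSeries k, ∃ a : Fin n → k, g = ∑ i, a i • (b i).map (residue R) := by
    intro g
    obtain ⟨g', rfl⟩ := PowerSeries.map_surjective (residue R) residue_surjective g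
    obtain ⟨c, hc⟩ := h g'
    refine ⟨fun i => residue R (constantCoeff (c i)), ?_⟩
    conv_lhs => rw [hc]
    rw [map_sum]
    refine Finset.sum_congr rfl fun i _ => ?_
    rw [map_mul, subst_eq hf0 (c i), map_add, map_mul, hf, zero_mul, zero_add, map_C,
      PowerSeries.smul_eq_C_mul]
  -- the first `n + 1` coefficients give a surjection onto `k ^ (n + 1)`
  let φ : PowerSeries k →ₗ[k] (Fin (n + 1) → k) := LinearMap.pi fun i => PowerSeries.coeff (i : ℕ)
  have hφ : Function.Surjective φ := by
    intro a
    refine ⟨PowerSeries.mk fun m => if hm : m < n + 1 then a ⟨m, hm⟩ else 0, ?_⟩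
    funext i
    simp only [φ, LinearMap.pi_apply, coeff_mk]
    rw [dif_pos i.2]
  have htop : Submodule.span k (Set.range fun i : Fin n => φ ((b i).map (residue R))) = ⊤ := by
    rw [eq_top_iff]
    intro x _
    obtain ⟨g, rfl⟩ := hφ x
    obtain ⟨a, ha⟩ := hspan g
    rw [ha, map_sum]
    refine Submodule.sum_mem _ fun i _ => ?_
    rw [map_smul]
    exact Submodule.smul_mem _ _ (Submodule.subset_span ⟨i, rfl⟩)
  have h1 := finrank_range_le_card (R := k) (fun i : Fin n => φ ((b i).map (residue R)))
  rw [Set.finrank, htop, finrank_top, Module.finrank_fin_fun, Fintype.card_fin] at h1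
  omega

end Backward

lemma constantCoeff_nsmul {R : Type u} [CommRing R] (F : FormalGroup R) (x : F.Point Unit)
    (hx : constantCoeff (x.val : PowerSeries R) = 0) (n : ℕ) :
    constantCoeff ((n • x : F.Point Unit).val : PowerSeries R) = 0 := by
  induction n with
  | zero => rw [zero_smul]; exact map_zero _
  | succ n ih =>
    rw [succ_nsmul]
    exact K955.Inverse.constantCoeff_subst_pair F ih hx

end K955.FreeAlong
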