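import Mathlib.RingTheory.FormalGroup.Basic
import Mathlib.Tactic

/-!
# Existence of inverses for one-dimensional formal group laws over a commutative ring
-/

set_option autoImplicit false

universe u

namespace K955.Inverse

open MvPowerSeries

variable {R : Type u} [CommRing R]

lemma hasSubst_pair {a b : PowerSeries R} (ha : a.constantCoeff = 0) (hb : b.constantCoeff = 0) :
    MvPowerSeries.HasSubst (![a, b] : Fin 2 → MvPowerSeries Unit R) := by
  refine hasSubst_of_constantCoeff_nilpotent fun s => ?_
  fin_cases s
  · change IsNilpotent (a.constantCoeff)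
    rw [ha]; exact IsNilpotent.zero
  · change IsNilpotent (b.constantCoeff)
    rw [hb]; exact IsNilpotent.zero

lemma coeff_subst_pair (f : MvPowerSeries (Fin 2) R) {a b : PowerSeries R}
    (ha : a.constantCoeff = 0) (hb : b.constantCoeff = 0) (n : ℕ) :
    PowerSeries.coeff n (f.subst ![a, b] : PowerSeries R) =
      finsum (fun d : Fin 2 →₀ ℕ => MvPowerSeries.coeff d f * PowerSeries.coeff n (a ^ d 0 * b ^ d 1)) := by
  rw [PowerSeries.coeff, coeff_subst (hasSubst_pair ha hb)]
  refine finsum_congr fun d => ?_
  rw [smul_eq_mul]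
  congr 2
  rw [Finsupp.prod_fintype _ _ (fun _ => pow_zero _), Fin.prod_univ_two]
  rfl

/-- Substitution respects congruences modulo powers of `X`. -/
lemma X_pow_dvd_subst_sub (f : MvPowerSeries (Fin 2) R) {a b b' : PowerSeries R}
    (ha : a.constantCoeff = 0) (hb : b.constantCoeff = 0) (hb' : b'.constantCoeff = 0) {m : ℕ}
    (h : (PowerSeries.X : PowerSeries R) ^ m ∣ b' - b) :
    (PowerSeries.X : PowerSeries R) ^ m ∣ (f.subst ![a, b'] : PowerSeries R) - f.subst ![a, b] := by
  rw [PowerSeries.X_pow_dvd_iff]
  intro n hn
  rw [map_sub, coeff_subst_pair f ha hb, coeff_subst_pair f ha hb', sub_eq_zero]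
  refine finsum_congr fun d => ?_
  congr 1
  have h1 : (PowerSeries.X : PowerSeries R) ^ m ∣ a ^ d 0 * b' ^ d 1 - a ^ d 0 * b ^ d 1 := by
    rw [← mul_sub]
    exact Dvd.dvd.mul_left (h.trans (sub_dvd_pow_sub_pow _ _ _)) _
  rw [PowerSeries.X_pow_dvd_iff] at h1
  have := h1 n hn
  rw [map_sub, sub_eq_zero] at this
  exact this

lemma constantCoeff_subst_pair (F : FormalGroup R) {a b : PowerSeries R}
    (ha : a.constantCoeff = 0) (hb : b.constantCoeff = 0) :
    PowerSeries.constantCoeff (F.toPowerSeries.subst ![a, b] : PowerSeries R) = 0 := by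
  rw [← PowerSeries.coeff_zero_eq_constantCoeff_apply, coeff_subst_pair _ ha hb]
  rw [← finsum_zero (M := R) (α := Fin 2 →₀ ℕ)]
  refine finsum_congr fun d => ?_
  by_cases hd : d = 0
  · subst hd
    have := F.zero_constantCoeff
    rw [← MvPowerSeries.coeff_zero_eq_constantCoeff_apply] at this
    rw [this, zero_mul]
  · have : PowerSeries.coeff 0 (a ^ d 0 * b ^ d 1) = 0 := by
      rw [PowerSeries.coeff_zero_eq_constantCoeff_apply, map_mul, map_pow, map_pow, ha, hb]
      by_cases h0 : d 0 = 0
      · have h1 : d 1 ≠ 0 := by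
          intro h1
          apply hd
          ext i
          fin_cases i
          · exact h0
          · exact h1
        rw [zero_pow h1, mul_zero]
      · rw [zero_pow h0, zero_mul]
    rw [this, mul_zero]

/-- The coefficients of `Y ^ n` in a formal group law. -/
lemma coeff_single_one (F : FormalGroup R) (n : ℕ) :
    MvPowerSeries.coeff (Finsupp.single 1 n) F.toPowerSeries = if n = 1 then 1 else 0 := by
  have h := congrArg (PowerSeries.coeff n) F.zeroX_eq_X
  rw [FormalGroup.zeroX, coeff_subst_pair _ (map_zero _) PowerSeries.constantCoeff_X] at h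
  rw [finsum_eq_single _ (Finsupp.single 1 n)] at h
  · simpa [PowerSeries.coeff_X] using h
  · intro d hd
    by_cases h0 : d 0 = 0
    · have h1 : d 1 ≠ n := by
        rintro rfl
        apply hd
        ext i
        fin_cases i
        · simpa using h0
        · simp
      rw [h0, pow_zero, one_mul, PowerSeries.coeff_X_pow, if_neg (fun h => h1 h.symm), mul_zero]
    · rw [zero_pow h0, zero_mul, map_zero, mul_zero]

/-- The refined congruence: changing the second argument by `h` changes `F(a, b)` by `h` up to
terms of higher order. -/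
lemma X_pow_succ_dvd (F : FormalGroup R) {a b b' : PowerSeries R}
    (ha : a.constantCoeff = 0) (hb : b.constantCoeff = 0) (hb' : b'.constantCoeff = 0) {m : ℕ}
    (h : (PowerSeries.X : PowerSeries R) ^ m ∣ b' - b) :
    (PowerSeries.X : PowerSeries R) ^ (m + 1) ∣
      (F.toPowerSeries.subst ![a, b'] : PowerSeries R) - F.toPowerSeries.subst ![a, b] - (b' - b) := by
  obtain ⟨H, hH⟩ : (MvPowerSeries.X 0 : MvPowerSeries (Fin 2) R) ∣
      F.toPowerSeries - MvPowerSeries.X 1 := by
    rw [MvPowerSeries.X_dvd_iff]
    intro d hd
    have hd' : d = Finsupp.single 1 (d 1) := by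
      ext i
      fin_cases i
      · simpa using hd
      · simp
    rw [map_sub, hd', coeff_single_one, MvPowerSeries.coeff_X, sub_eq_zero]
    by_cases h1 : d 1 = 1
    · rw [if_pos h1, h1, if_pos rfl]
    · rw [if_neg h1, if_neg]
      intro h2
      apply h1
      have := congrArg (fun g => g 1) h2
      simpa using this
  have hs : ∀ {c : PowerSeries R}, c.constantCoeff = 0 →
      (F.toPowerSeries.subst ![a, c] : PowerSeries R) = a * (H.subst ![a, c] : PowerSeries R) + c := by
    intro c hc
    have hF : F.toPowerSeries = MvPowerSeries.X 0 * H + MvPowerSeries.X 1 := by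
      rw [← hH]; ring
    rw [hF, subst_add (hasSubst_pair ha hc), subst_mul (hasSubst_pair ha hc),
      subst_X (hasSubst_pair ha hc), subst_X (hasSubst_pair ha hc)]
    rfl
  rw [hs hb, hs hb']
  have h1 := X_pow_dvd_subst_sub H ha hb hb' h
  have h2 : (PowerSeries.X : PowerSeries R) ∣ a := PowerSeries.X_dvd_iff.mpr ha
  have h3 := mul_dvd_mul h2 h1
  rw [← pow_succ'] at h3
  convert h3 using 1
  ring

/-- The approximations of the right inverse series. -/
noncomputable def approx (F : FormalGroup R) : ℕ → PowerSeries R
  | 0 => 0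
  | n + 1 => approx F n - (F.toPowerSeries.subst ![(PowerSeries.X : PowerSeries R), approx F n] : PowerSeries R)

lemma approx_spec (F : FormalGroup R) (n : ℕ) :
    (approx F n).constantCoeff = 0 ∧ (PowerSeries.X : PowerSeries R) ^ (n + 1) ∣
      (F.toPowerSeries.subst ![(PowerSeries.X : PowerSeries R), approx F n] : PowerSeries R) := by
  induction n with
  | zero =>
    refine ⟨map_zero _, ?_⟩
    have := F.Xzero_eq_X
    rw [FormalGroup.Xzero] at this
    rw [approx, this, zero_add, pow_one]
  | succ n ih =>
    obtain ⟨h0, h1⟩ := ih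
    have hc : (approx F (n + 1)).constantCoeff = 0 := by
      rw [approx, map_sub, h0, constantCoeff_subst_pair F PowerSeries.constantCoeff_X h0, sub_zero]
    refine ⟨hc, ?_⟩
    have h2 : (PowerSeries.X : PowerSeries R) ^ (n + 1) ∣ approx F (n + 1) - approx F n := by
      rw [approx, sub_sub_cancel_left]
      exact (dvd_neg).mpr h1
    have h3 := X_pow_succ_dvd F PowerSeries.constantCoeff_X h0 hc h2
    have h4 : (F.toPowerSeries.subst ![(PowerSeries.X : PowerSeries R), approx F (n + 1)] : PowerSeries R) -
        F.toPowerSeries.subst ![(PowerSeries.X : PowerSeries R), approx F n] - (approx F (n + 1) - approx F n) =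
        F.toPowerSeries.subst ![(PowerSeries.X : PowerSeries R), approx F (n + 1)] := by
      rw [show approx F (n + 1) - approx F n =
        -(F.toPowerSeries.subst ![(PowerSeries.X : PowerSeries R), approx F n] : PowerSeries R) by
          rw [approx, sub_sub_cancel_left]]
      ring
    rwa [h4] at h3

lemma approx_succ_sub (F : FormalGroup R) (n : ℕ) :
    (PowerSeries.X : PowerSeries R) ^ (n + 1) ∣ approx F (n + 1) - approx F n := by
  rw [approx, sub_sub_cancel_left]
  exact (dvd_neg).mpr (approx_spec F n).2

lemma coeff_approx (F : FormalGroup R) (n k : ℕ) :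
    PowerSeries.coeff n (approx F (n + k)) = PowerSeries.coeff n (approx F n) := by
  induction k with
  | zero => rfl
  | succ k ih =>
    rw [← ih]
    have := approx_succ_sub F (n + k)
    rw [PowerSeries.X_pow_dvd_iff] at this
    have := this n (by omega)
    rw [map_sub, sub_eq_zero] at this
    exact this

/-- The right inverse series of a formal group law. -/
noncomputable def rightInv (F : FormalGroup R) : PowerSeries R :=
  PowerSeries.mk fun n => PowerSeries.coeff n (approx F n)

lemma constantCoeff_rightInv (F : FormalGroup R) : (rightInv F).constantCoeff = 0 := by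
  rw [← PowerSeries.coeff_zero_eq_constantCoeff_apply, rightInv, PowerSeries.coeff_mk,
    PowerSeries.coeff_zero_eq_constantCoeff_apply, (approx_spec F 0).1]

lemma subst_rightInv (F : FormalGroup R) :
    (F.toPowerSeries.subst ![(PowerSeries.X : PowerSeries R), rightInv F] : PowerSeries R) = 0 := by
  ext n
  rw [map_zero]
  have h1 : (PowerSeries.X : PowerSeries R) ^ (n + 1) ∣ rightInv F - approx F n := by
    rw [PowerSeries.X_pow_dvd_iff]
    intro m hm
    rw [map_sub, rightInv, PowerSeries.coeff_mk, sub_eq_zero]
    obtain ⟨k, rfl⟩ : ∃ k, n = m + k := ⟨n - m, by omega⟩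
    rw [coeff_approx]
  have h2 := X_pow_dvd_subst_sub F.toPowerSeries PowerSeries.constantCoeff_X (approx_spec F n).1
    (constantCoeff_rightInv F) h1
  have h3 := dvd_add h2 (approx_spec F n).2
  rw [sub_add_cancel, PowerSeries.X_pow_dvd_iff] at h3
  exact h3 n (by omega)

lemma hasSubst_of_constantCoeff {a : PowerSeries R} (ha : a.constantCoeff = 0) :
    PowerSeries.HasSubst a :=
  PowerSeries.HasSubst.of_constantCoeff_zero' ha

/-- Every series without constant term has a right inverse for the formal group law. -/
lemma exists_right_inverse (F : FormalGroup R) {a : PowerSeries R} (ha : a.constantCoeff = 0) :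
    ∃ b : PowerSeries R, b.constantCoeff = 0 ∧
      (F.toPowerSeries.subst ![a, b] : PowerSeries R) = 0 := by
  have hs := hasSubst_of_constantCoeff ha
  refine ⟨(rightInv F).subst a, ?_, ?_⟩
  · exact PowerSeries.constantCoeff_subst_eq_zero ha _ (constantCoeff_rightInv F)
  · have h := congrArg (PowerSeries.subst a) (subst_rightInv F)
    rw [← PowerSeries.coe_substAlgHom hs, map_zero, PowerSeries.coe_substAlgHom hs] at h
    rw [← h]
    symm
    rw [PowerSeries.subst,
      subst_comp_subst_apply (hasSubst_pair PowerSeries.constantCoeff_X (constantCoeff_rightInv F)) hs.const]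
    congr! 2 with s
    fin_cases s
    · simp [← PowerSeries.subst_def, PowerSeries.subst_X hs]
    · simp [← PowerSeries.subst_def]

theorem exists_inverse (F : FormalGroup R) :
    ∃ g : PowerSeries R, g.constantCoeff = 0 ∧
      F.toPowerSeries.subst ![PowerSeries.X, g] = (0 : PowerSeries R) ∧
      F.toPowerSeries.subst ![g, PowerSeries.X] = (0 : PowerSeries R) ∧
      ∀ k : PowerSeries R, k.constantCoeff = 0 →
        (F.toPowerSeries.subst ![PowerSeries.X, k] = (0 : PowerSeries R) ∨
          F.toPowerSeries.subst ![k, PowerSeries.X] = (0 : PowerSeries R)) → k = g := by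
  obtain ⟨g', hg'0, hg'⟩ := exists_right_inverse F (constantCoeff_rightInv F)
  set g := rightInv F with hg
  let x : F.Point Unit := ⟨PowerSeries.X, PowerSeries.HasSubst.X'⟩
  let y : F.Point Unit := ⟨g, hasSubst_of_constantCoeff (constantCoeff_rightInv F)⟩
  let y' : F.Point Unit := ⟨g', hasSubst_of_constantCoeff hg'0⟩
  have h1 : x + y = 0 := Subtype.ext (subst_rightInv F)
  have h2 : y + y' = 0 := Subtype.ext hg'
  have h3 : x = y' := by
    rw [← add_zero x, ← h2, ← add_assoc, h1, zero_add]
  have h4 : y + x = 0 := by rw [h3]; exact h2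
  refine ⟨g, constantCoeff_rightInv F, subst_rightInv F, congrArg Subtype.val h4, ?_⟩
  intro k hk hk'
  let z : F.Point Unit := ⟨k, hasSubst_of_constantCoeff hk⟩
  have h5 : z = y := by
    rcases hk' with h | h
    · have h6 : x + z = 0 := Subtype.ext h
      rw [← zero_add z, ← h4, add_assoc, h6, add_zero]
    · have h6 : z + x = 0 := Subtype.ext h
      rw [← add_zero z, ← h1, ← add_assoc, h6, zero_add]
  exact congrArg Subtype.val h5

end K955.Inverse
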